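import Mathlib
import Cfsg.Agent.Lib.Helper10.M23H2.Data
import Cfsg.Agent.Lib.Helper3.Fus.Groups

set_option autoImplicit false

/-!
Further checkable predicates for `S2649`: the normal words of the polycyclic presentation, the check
of the closure derivations and the checks on the side of the permutations.
-/

namespace Cfsg.Agent.Lib.Helper10.M23H2

open Cfsg Cfsg.Agent.Lib.Helper3.Golay
open Cfsg.Agent.Lib.Helper3.Fus (eqB nodupB)

/-- the normal words: the increasing words in the letters `0, …, 6` -/
def nwords : List (List ℕ) :=
  (List.range 128).map (fun e => (List.range 7).filter (fun i => e.testBit (6 - i)))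

/-- the check of the closure derivations: the `k`-th derivation rewrites the `k / n`-th normal word
followed by the letter `k % n` to a normal word -/
def closeOK (R : List Rel) (nw : List (List ℕ)) (n : ℕ) (cl : List (List (ℕ × ℕ))) : Bool :=
  allBelow (nw.length * n) (fun k =>
    match runD R (nw.getD (k / n) [] ++ [k % n]) (cl.getD k []) with
    | some w' => nw.any (fun v => eqB v w')
    | none => false)

/-- the check that the relators hold for the permutations: the traces of both sides agree -/
def relPermOK (tinv : List ℕ) (R : List Rel) : Bool :=
  R.all (fun lr => allBelow 24 (fun q => Nat.beq (traceI tinv lr.1 q) (traceI tinv lr.2 q)))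

/-- the code of the inverse of the permutation of a word -/
def invCode (tinv : List ℕ) (w : List ℕ) : ℕ := packN (fun q => traceI tinv w q) 24

/-- the check that the permutations of the normal words are distinct -/
def distinctOK (tinv : List ℕ) (nw : List (List ℕ)) : Bool := nodupB (nw.map (invCode tinv))

end Cfsg.Agent.Lib.Helper10.M23H2
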