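import Mathlib
import Cfsg.Agent.Lib.Helper10.M23H2.Defs2

set_option autoImplicit false

/-!
The abstract setting of `S2649`: a group `E` with a homomorphism `pi` to the permutations of the 24
points, whose kernel `N` is identified by `psi` with the code words vanishing at infinity,
compatibly with the actions.
-/

namespace Cfsg.Agent.Lib.Helper10.M23H2

open Cfsg Cfsg.Agent.Lib.Helper3.Golay

/-- an extension of `M23` by the code words vanishing at infinity -/
structure Setting (E : Type*) [Group E] where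
  /-- the kernel -/
  N : Subgroup E
  /-- the projection -/
  pi : E →* Equiv.Perm GolayPt
  /-- the identification of the kernel with the module (junk outside the kernel) -/
  psi : E → GolayPt → ZMod 2
  mem_N : ∀ g, g ∈ N ↔ pi g = 1
  psi_mul : ∀ a ∈ N, ∀ b ∈ N, psi (a * b) = psi a + psi b
  psi_inj : ∀ a ∈ N, psi a = 0 → a = 1
  psi_conj : ∀ g, ∀ n ∈ N, psi (g * n * g⁻¹) = psi n ∘ ⇑(pi g)⁻¹
  psi_mem : ∀ n ∈ N, psi n ∈ golayCode ∧ psi n none = 0
  psi_surj : ∀ w ∈ golayCode, w none = 0 → ∃ n ∈ N, psi n = w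
  pi_surj : ∀ σ ∈ Cfsg.Spor.M23, ∃ g, pi g = σ

namespace Setting

variable {E : Type*} [Group E] (S : Setting E)

theorem conj_mem {n : E} (hn : n ∈ S.N) (g : E) : g * n * g⁻¹ ∈ S.N := by
  rw [S.mem_N] at hn ⊢
  rw [map_mul, map_mul, hn, mul_one, map_inv, mul_inv_cancel]

theorem psi_one : S.psi 1 = 0 := by
  have h := S.psi_mul 1 S.N.one_mem 1 S.N.one_mem
  rw [mul_one] at h
  exact left_eq_add.mp h

theorem psi_inv {n : E} (hn : n ∈ S.N) : S.psi n⁻¹ = S.psi n := by
  have h := S.psi_mul n hn n⁻¹ (S.N.inv_mem hn)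
  rw [mul_inv_cancel, S.psi_one] at h
  have h2 : ∀ v : GolayPt → ZMod 2, v + v = 0 := by
    intro v
    funext p
    exact CharTwo.add_self_eq_zero (v p)
  calc S.psi n⁻¹ = (S.psi n + S.psi n) + S.psi n⁻¹ := by rw [h2, zero_add]
    _ = S.psi n + (S.psi n + S.psi n⁻¹) := by rw [add_assoc]
    _ = S.psi n := by rw [← h, add_zero]

theorem eq_of_psi_eq {a b : E} (ha : a ∈ S.N) (hb : b ∈ S.N) (h : S.psi a = S.psi b) : a = b := by
  have h1 : a * b⁻¹ ∈ S.N := S.N.mul_mem ha (S.N.inv_mem hb)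
  have h2 : S.psi (a * b⁻¹) = 0 := by
    rw [S.psi_mul a ha b⁻¹ (S.N.inv_mem hb), S.psi_inv hb, h]
    funext p
    exact CharTwo.add_self_eq_zero (S.psi b p)
  have h3 := S.psi_inj _ h1 h2
  exact mul_inv_eq_one.mp h3

end Setting

end Cfsg.Agent.Lib.Helper10.M23H2
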