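import Mathlib
import Cfsg.Agent.Lib.Helper10.M23H2.Data2
import Cfsg.Agent.Lib.Helper10.M23H2.Setting

set_option autoImplicit false

/-!
The dual (cocode) side, for `S2651`: the kernel `N` is the quotient of the space of all words by
the code extended by the unit vector at infinity; elements of `N` are represented by words, and a
word represents `1` iff its syndromes (the pairings with the basis `B0` of the code words vanishing
at infinity) vanish.
-/

namespace Cfsg.Agent.Lib.Helper10.M23H2

open Cfsg Cfsg.Agent.Lib.Helper3.Golay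

/-- the pairing of a word with a mask -/
def dotM (w : GolayPt → ZMod 2) (b : ℕ) : ZMod 2 :=
  ∑ q ∈ Finset.range 24, if b.testBit q then w (pt q) else 0

/-- the syndrome form of a packed symbolic vector with respect to a mask: the xor of the blocks
in the support of the mask -/
def synd (b sv : ℕ) : ℕ :=
  xorL ((List.range 24).map (fun q => bif b.testBit q then blk sv q else 0))

/-- the syndrome forms of a list of packed symbolic vectors -/
def synds (Bs : List ℕ) (l : List ℕ) : List ℕ :=
  l.flatMap (fun sv => Bs.map (fun b => synd b sv))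

/-- the masks of the unit vectors at the free positions `1, …, 11` -/
def U0 : List ℕ := (List.range 11).map (fun j => 2 ^ (j + 1))

/-- an extension of `M23` by the cocode module: the quotient of all words by the code and the unit
vector at infinity -/
structure CSetting (E : Type*) [Group E] where
  /-- the kernel -/
  N : Subgroup E
  /-- the projection -/
  pi : E →* Equiv.Perm GolayPt
  /-- the parametrisation of the kernel by words -/
  theta : (GolayPt → ZMod 2) → E
  mem_N : ∀ g, g ∈ N ↔ pi g = 1
  theta_add : ∀ u v, theta (u + v) = theta u * theta v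
  theta_ker : ∀ w, theta w = 1 ↔ (w ∈ golayCode ∨ w + Pi.single none 1 ∈ golayCode)
  theta_conj : ∀ g w, theta (w ∘ ⇑(pi g)⁻¹) = g * theta w * g⁻¹
  theta_surj : ∀ n ∈ N, ∃ w, theta w = n
  theta_mem : ∀ w, theta w ∈ N
  pi_mem : ∀ g, pi g ∈ Cfsg.Spor.M23
  pi_surj : ∀ σ ∈ Cfsg.Spor.M23, ∃ g, pi g = σ

/-- the coordinates of an element of the kernel: the syndromes of a word representing it -/
noncomputable def CSetting.kap {E : Type*} [Group E] (S : CSetting E) (n : E) (j : ℕ) : ZMod 2 :=
  open Classical in
  if h : ∃ w, S.theta w = n then dotM (Classical.choose h) (B0.getD j 0) else 0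

/-- the variables: the coordinates of the tails of the relators -/
noncomputable def CSetting.aOf {E : Type*} [Group E] (S : CSetting E) (y : ℕ → E) : ℕ → ZMod 2 :=
  fun k => S.kap (tailE y (getR relL (k / 11))) (k % 11)

namespace CSetting

variable {E : Type*} [Group E] (S : CSetting E)

theorem theta_zero : S.theta 0 = 1 := by
  have h := S.theta_add 0 0
  rw [add_zero] at h
  exact left_eq_mul.mp h

theorem theta_sq (w : GolayPt → ZMod 2) : S.theta w * S.theta w = 1 := by
  rw [← S.theta_add]
  have : w + w = 0 := by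
    funext p
    exact CharTwo.add_self_eq_zero (w p)
  rw [this, S.theta_zero]

theorem theta_inv (w : GolayPt → ZMod 2) : (S.theta w)⁻¹ = S.theta w :=
  inv_eq_of_mul_eq_one_left (S.theta_sq w)

theorem pi_theta (w : GolayPt → ZMod 2) : S.pi (S.theta w) = 1 :=
  (S.mem_N _).mp (S.theta_mem w)

end CSetting

/-- the fibre product of two extensions -/
def baerF {E E' : Type*} [Group E] [Group E'] (S : CSetting E) (S' : CSetting E') :
    Subgroup (E × E') where
  carrier := {x | S.pi x.1 = S'.pi x.2}
  mul_mem' := by
    intro a b ha hb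
    show S.pi (a * b).1 = S'.pi (a * b).2
    have ha' : S.pi a.1 = S'.pi a.2 := ha
    have hb' : S.pi b.1 = S'.pi b.2 := hb
    rw [Prod.fst_mul, Prod.snd_mul, map_mul, map_mul, ha', hb']
  one_mem' := by
    show S.pi (1 : E × E').1 = S'.pi (1 : E × E').2
    rw [Prod.fst_one, Prod.snd_one, map_one, map_one]
  inv_mem' := by
    intro a ha
    show S.pi (a⁻¹).1 = S'.pi (a⁻¹).2
    have ha' : S.pi a.1 = S'.pi a.2 := ha
    rw [Prod.fst_inv, Prod.snd_inv, map_inv, map_inv, ha']

theorem mem_baerF {E E' : Type*} [Group E] [Group E'] (S : CSetting E) (S' : CSetting E')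
    (x : E × E') : x ∈ baerF S S' ↔ S.pi x.1 = S'.pi x.2 := Iff.rfl

/-- the diagonal copy of the module in the fibre product -/
def baerDelta {E E' : Type*} [Group E] [Group E'] (S : CSetting E) (S' : CSetting E') :
    Subgroup (baerF S S') where
  carrier := {x | ∃ w, x.1 = (S.theta w, S'.theta w)}
  mul_mem' := by
    rintro a b ⟨u, hu⟩ ⟨v, hv⟩
    refine ⟨u + v, ?_⟩
    rw [Subgroup.coe_mul, hu, hv, S.theta_add, S'.theta_add]
    rfl
  one_mem' := by
    refine ⟨0, ?_⟩
    rw [Subgroup.coe_one, S.theta_zero, S'.theta_zero]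
    rfl
  inv_mem' := by
    rintro a ⟨u, hu⟩
    refine ⟨u, ?_⟩
    rw [Subgroup.coe_inv, hu, Prod.inv_mk, S.theta_inv, S'.theta_inv]

theorem mem_baerDelta {E E' : Type*} [Group E] [Group E'] (S : CSetting E) (S' : CSetting E')
    (x : baerF S S') : x ∈ baerDelta S S' ↔ ∃ w, x.1 = (S.theta w, S'.theta w) := Iff.rfl

instance baerDelta_normal {E E' : Type*} [Group E] [Group E'] (S : CSetting E)
    (S' : CSetting E') : (baerDelta S S').Normal := by
  constructor
  rintro a ⟨w, hw⟩ g
  have hg : S.pi g.1.1 = S'.pi g.1.2 := g.2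
  refine ⟨w ∘ ⇑(S.pi g.1.1)⁻¹, ?_⟩
  rw [Subgroup.coe_mul, Subgroup.coe_mul, Subgroup.coe_inv, hw, S.theta_conj]
  conv_rhs => rw [hg, S'.theta_conj]
  rfl

/-- the Baer difference of two extensions -/
abbrev BaerD {E E' : Type*} [Group E] [Group E'] (S : CSetting E) (S' : CSetting E') :=
  baerF S S' ⧸ baerDelta S S'

end Cfsg.Agent.Lib.Helper10.M23H2
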