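import Mathlib
import Cfsg.Agent.Lib.Helper10.M23H2.Defs2

set_option autoImplicit false

/-!
Coordinates of the code words vanishing at infinity in the basis `B0` (for `S2649`).
-/

namespace Cfsg.Agent.Lib.Helper10.M23H2

open Cfsg Cfsg.Agent.Lib.Helper3.Golay

/-- the combination of the basis with the coefficients given by the bits `1, …, 11` of a mask -/
def comb0 (m : ℕ) : ℕ :=
  xorL ((List.range 11).map (fun j => bif m.testBit (j + 1) then B0.getD j 0 else 0))

set_option maxRecDepth 100000 in
set_option maxHeartbeats 0 in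
theorem cert_coords : allBelow 4096 (fun c =>
    (codeMask c).testBit 23 || Nat.beq (codeMask c) (comb0 (codeMask c))) = true := by
  decide +kernel

set_option maxRecDepth 100000 in
theorem cert_B0 : B0.all (fun m => Nat.beq (codeMask (m % 4096)) m && !(m.testBit 23) &&
    Nat.blt m 16777216) = true := by
  decide +kernel

theorem B0_length : B0.length = 11 := by decide +kernel

theorem range11 : List.range 11 = [0, 1, 2, 3, 4, 5, 6, 7, 8, 9, 10] := by decide +kernel

theorem B0_spec (j : ℕ) (hj : j < 11) :
    wordOf (B0.getD j 0) ∈ golayCode ∧ wordOf (B0.getD j 0) none = 0 := by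
  have hmem : B0.getD j 0 ∈ B0 := by
    rw [List.getD_eq_getElem _ _ (by rw [B0_length]; exact hj)]
    exact List.getElem_mem _
  have h := List.all_eq_true.mp cert_B0 _ hmem
  simp only [Bool.and_eq_true, Bool.not_eq_true'] at h
  obtain ⟨⟨h1, h2⟩, h3⟩ := h
  have h1' := Nat.eq_of_beq_eq_true h1
  have h3' : B0.getD j 0 < 2 ^ 24 := by
    have := Nat.blt_eq.mp h3
    exact this
  refine ⟨(wordOf_mem_iff h3').mpr h1', ?_⟩
  rw [wordOf_apply]
  have : idx (none : GolayPt) = 23 := rfl
  rw [this, h2]
  rfl

theorem wordOf_comb0 (m : ℕ) (p : GolayPt) :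
    wordOf (comb0 m) p =
      ∑ j ∈ Finset.range 11, (if m.testBit (j + 1) then 1 else 0) * wordOf (B0.getD j 0) p := by
  have h : ∀ (b : Bool) (k : ℕ), wordOf (bif b then k else 0) p =
      (if b then 1 else 0) * wordOf k p := by
    intro b k
    cases b
    · simp [wordOf_zero]
    · simp
  unfold comb0 xorL
  rw [range11]
  simp only [List.map_cons, List.map_nil, List.foldl_cons, List.foldl_nil, wordOf_xor,
    Pi.add_apply, h, wordOf_zero, zero_add, Finset.sum_range_succ,
    Finset.sum_range_zero]

theorem c0_coords (v : GolayPt → ZMod 2) (hv : v ∈ golayCode) (h0 : v none = 0) :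
    v = fun p => ∑ j ∈ Finset.range 11, v (pt (j + 1)) * wordOf (B0.getD j 0) p := by
  obtain ⟨c, hc, rfl⟩ := (mem_golayCode_iff v).mp hv
  have h23 : (codeMask c).testBit 23 = false := by
    rw [wordOf_apply] at h0
    have : idx (none : GolayPt) = 23 := rfl
    rw [this] at h0
    cases hb : (codeMask c).testBit 23 with
    | false => rfl
    | true => rw [hb] at h0; simp at h0
  have hcert := (allBelow_iff _ _).mp cert_coords c hc
  rw [h23, Bool.false_or] at hcert
  have hm : codeMask c = comb0 (codeMask c) := Nat.eq_of_beq_eq_true hcert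
  funext p
  conv_lhs => rw [hm]
  rw [wordOf_comb0]
  apply Finset.sum_congr rfl
  intro j hj
  rw [Finset.mem_range] at hj
  have e : wordOf (codeMask c) (pt (j + 1)) = if (codeMask c).testBit (j + 1) then 1 else 0 := by
    rw [wordOf_apply, idx_pt (by omega : j + 1 < 24)]
  rw [e]

theorem c0_mem (c : ℕ → ZMod 2) :
    (fun p => ∑ j ∈ Finset.range 11, c j * wordOf (B0.getD j 0) p) ∈ golayCode ∧
      (∑ j ∈ Finset.range 11, c j * wordOf (B0.getD j 0) none) = 0 := by
  constructor
  · have : (fun p => ∑ j ∈ Finset.range 11, c j * wordOf (B0.getD j 0) p) =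
        ∑ j ∈ Finset.range 11, c j • wordOf (B0.getD j 0) := by
      funext p
      rw [Finset.sum_apply]
      rfl
    rw [this]
    apply Submodule.sum_mem
    intro j hj
    rw [Finset.mem_range] at hj
    exact Submodule.smul_mem _ _ (B0_spec j hj).1
  · apply Finset.sum_eq_zero
    intro j hj
    rw [Finset.mem_range] at hj
    rw [(B0_spec j hj).2, mul_zero]

end Cfsg.Agent.Lib.Helper10.M23H2
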