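import Mathlib
import Cfsg.Agent.Lib.Helper10.M23H2.Dual
import Cfsg.Agent.Lib.Helper4.M23H2.D2
import Cfsg.Agent.Lib.Helper3.OutAut.M23

set_option autoImplicit false

/-!
Basic facts on the cocode setting `CSetting` (leaf D3 of `S2651`).
-/

namespace Cfsg.Agent.Lib.Helper10.M23H2

open Cfsg Cfsg.Agent.Lib.Helper3.Golay
open Cfsg.Agent.Lib.Helper4.M23H2Leaf

theorem B0_getD_mem {j : ℕ} (hj : j < 11) : B0.getD j 0 ∈ B0 := by
  have h : j < B0.length := by
    have : B0.length = 11 := by decide +kernel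
    omega
  rw [List.getD_eq_getElem _ _ h]
  exact List.getElem_mem _

theorem exists_of_mem_B0 {b : ℕ} (hb : b ∈ B0) : ∃ j < 11, b = B0.getD j 0 := by
  obtain ⟨j, hj, rfl⟩ := List.mem_iff_getElem.mp hb
  have : B0.length = 11 := by decide +kernel
  refine ⟨j, by omega, ?_⟩
  rw [List.getD_eq_getElem _ _ hj]

theorem theta_eq_one_iff {E : Type*} [Group E] (S : CSetting E) (w : GolayPt → ZMod 2) :
    S.theta w = 1 ↔ ∀ b ∈ B0, dotM w b = 0 := by
  rw [S.theta_ker]
  exact ⟨dot_B0_of_mem w, mem_of_dot_B0 w⟩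

theorem zmod2_eq_of_add_eq_zero {x y : ZMod 2} (h : x + y = 0) : x = y := by
  revert x y
  decide

theorem kap_theta {E : Type*} [Group E] (S : CSetting E) (w : GolayPt → ZMod 2) (j : ℕ)
    (hj : j < 11) : S.kap (S.theta w) j = dotM w (B0.getD j 0) := by
  have h : ∃ w', S.theta w' = S.theta w := ⟨w, rfl⟩
  have hk : S.kap (S.theta w) j = dotM (Classical.choose h) (B0.getD j 0) := by
    unfold CSetting.kap
    rw [dif_pos h]
  have hw' := Classical.choose_spec h
  rw [hk]
  have h1 : S.theta (Classical.choose h + w) = 1 := by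
    rw [S.theta_add, hw', S.theta_sq]
  have h2 := (theta_eq_one_iff S _).mp h1 _ (B0_getD_mem hj)
  rw [dotM_add] at h2
  exact zmod2_eq_of_add_eq_zero h2

theorem dotM_sum (c : ℕ → ZMod 2) (v : ℕ → GolayPt → ZMod 2) (n b : ℕ) :
    dotM (fun p => ∑ k ∈ Finset.range n, c k * v k p) b =
      ∑ k ∈ Finset.range n, c k * dotM (v k) b := by
  unfold dotM
  have h1 : ∀ q ∈ Finset.range 24,
      (if b.testBit q = true then (fun p => ∑ k ∈ Finset.range n, c k * v k p) (pt q) else 0) =
        ∑ k ∈ Finset.range n, if b.testBit q = true then c k * v k (pt q) else 0 := by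
    intro q _
    split_ifs
    · rfl
    · rw [Finset.sum_const_zero]
  rw [Finset.sum_congr rfl h1, Finset.sum_comm]
  apply Finset.sum_congr rfl
  intro k _
  rw [Finset.mul_sum]
  apply Finset.sum_congr rfl
  intro q _
  split_ifs
  · rfl
  · rw [mul_zero]

theorem theta_coords {E : Type*} [Group E] (S : CSetting E) (n : E) (hn : n ∈ S.N) :
    S.theta (fun p => ∑ j ∈ Finset.range 11, S.kap n j * wordOf (U0.getD j 0) p) = n := by
  obtain ⟨w', hw'⟩ := S.theta_surj n hn
  have h1 : S.theta ((fun p => ∑ j ∈ Finset.range 11, S.kap n j * wordOf (U0.getD j 0) p) + w')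
      = 1 := by
    rw [theta_eq_one_iff]
    intro b hb
    obtain ⟨j, hj, rfl⟩ := exists_of_mem_B0 hb
    rw [dotM_add, dotM_sum]
    have e1 : dotM w' (B0.getD j 0) = S.kap n j := by
      rw [← hw', kap_theta S w' j hj]
    have e2 : ∑ k ∈ Finset.range 11, S.kap n k * dotM (wordOf (U0.getD k 0)) (B0.getD j 0)
        = S.kap n j := by
      rw [Finset.sum_eq_single j]
      · rw [dotM_U0_B0 j j hj hj, if_pos rfl, mul_one]
      · intro k hk hkj
        rw [Finset.mem_range] at hk
        rw [dotM_U0_B0 j k hj hk, if_neg (Ne.symm hkj), mul_zero]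
      · intro h
        exact absurd (Finset.mem_range.mpr hj) h
    rw [e1, e2]
    exact CharTwo.add_self_eq_zero _
  rw [S.theta_add, hw'] at h1
  have h2 := S.theta_sq w'
  rw [hw'] at h2
  calc S.theta (fun p => ∑ j ∈ Finset.range 11, S.kap n j * wordOf (U0.getD j 0) p)
      = S.theta (fun p => ∑ j ∈ Finset.range 11, S.kap n j * wordOf (U0.getD j 0) p) * (n * n) := by
        rw [h2, mul_one]
    _ = n := by rw [← mul_assoc, h1, one_mul]

theorem csetting_N_eq {E : Type*} [Group E] (S : CSetting E) : S.N = S.pi.ker := by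
  ext g
  rw [S.mem_N, MonoidHom.mem_ker]

theorem csetting_normal {E : Type*} [Group E] (S : CSetting E) : S.N.Normal := by
  rw [csetting_N_eq]
  infer_instance

theorem csetting_comm {E : Type*} [Group E] (S : CSetting E) :
    ∀ a ∈ S.N, ∀ b ∈ S.N, a * b = b * a := by
  intro a ha b hb
  obtain ⟨u, rfl⟩ := S.theta_surj a ha
  obtain ⟨v, rfl⟩ := S.theta_surj b hb
  rw [← S.theta_add, ← S.theta_add, add_comm]

theorem csetting_sq {E : Type*} [Group E] (S : CSetting E) : ∀ a ∈ S.N, a * a = 1 := by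
  intro a ha
  obtain ⟨u, rfl⟩ := S.theta_surj a ha
  exact S.theta_sq u

theorem csetting_index {E : Type*} [Group E] [Finite E] (S : CSetting E) :
    S.N.index = 10200960 := by
  rw [csetting_N_eq, Subgroup.index_ker]
  have h : S.pi.range = Cfsg.Spor.M23 := by
    ext σ
    constructor
    · rintro ⟨g, rfl⟩
      exact S.pi_mem g
    · intro hσ
      obtain ⟨g, hg⟩ := S.pi_surj σ hσ
      exact ⟨g, hg⟩
  rw [h]
  exact Cfsg.Agent.Lib.Helper3.OutM23.card_M23

end Cfsg.Agent.Lib.Helper10.M23H2
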