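import Mathlib
import Cfsg.Agent.Lib.Helper10.M23H2.Dual

set_option autoImplicit false

/-!
Leaf D6 of `S2651`: the cocode setting built from the hypotheses of the statement (after helper18's
`LS` for `S2649`).
-/

namespace Cfsg.Agent.Lib.Helper10.M23H2

open Cfsg Cfsg.Agent.Lib.Helper3.Golay

theorem csetting_of_hyps {E : Type*} [Group E] (N : Subgroup E) [hN : N.Normal]
    (φ : E ⧸ N ≃* ↥Cfsg.Spor.M23) (θ : (Cfsg.GolayPt → ZMod 2) →+ Additive ↥N)
    (hsurj : Function.Surjective θ)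
    (hker : ∀ w : Cfsg.GolayPt → ZMod 2, θ w = 0 ↔
      (w ∈ Cfsg.golayCode ∨ w + Pi.single none 1 ∈ Cfsg.golayCode))
    (hθ : ∀ (g : E) (w : Cfsg.GolayPt → ZMod 2),
      ((θ (w ∘ ⇑(((φ (QuotientGroup.mk g) : ↥Cfsg.Spor.M23) : Equiv.Perm Cfsg.GolayPt)⁻¹))).toMul : E)
        = g * ((θ w).toMul : E) * g⁻¹) :
    ∃ S : CSetting E, S.N = N := by
  classical
  let pi : E →* Equiv.Perm GolayPt :=
    (Subgroup.subtype Cfsg.Spor.M23).comp (φ.toMonoidHom.comp (QuotientGroup.mk' N))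
  have hpi : ∀ g : E, pi g = ((φ (QuotientGroup.mk g) : ↥Cfsg.Spor.M23) : Equiv.Perm GolayPt) :=
    fun g => rfl
  have hmem : ∀ g : E, g ∈ N ↔ pi g = 1 := by
    intro g
    rw [hpi, OneMemClass.coe_eq_one, map_eq_one_iff φ φ.injective, QuotientGroup.eq_one_iff]
  refine ⟨{ N := N
            pi := pi
            theta := fun w => ((θ w).toMul : E)
            mem_N := hmem
            theta_add := ?_
            theta_ker := ?_
            theta_conj := ?_
            theta_surj := ?_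
            theta_mem := ?_
            pi_mem := ?_
            pi_surj := ?_ }, rfl⟩
  · intro u v
    show (((θ (u + v)).toMul : ↥N) : E) = ((θ u).toMul : E) * ((θ v).toMul : E)
    rw [map_add]
    rfl
  · intro w
    show (((θ w).toMul : ↥N) : E) = 1 ↔ _
    rw [← hker w, OneMemClass.coe_eq_one]
    rfl
  · intro g w
    rw [hpi]
    exact hθ g w
  · intro n hn
    obtain ⟨w, hw⟩ := hsurj (Additive.ofMul (⟨n, hn⟩ : ↥N))
    refine ⟨w, ?_⟩
    show (((θ w).toMul : ↥N) : E) = n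
    rw [hw]
    rfl
  · intro w
    exact ((θ w).toMul : ↥N).2
  · intro g
    rw [hpi]
    exact (φ (QuotientGroup.mk g)).2
  · intro σ hσ
    obtain ⟨x, hx⟩ := φ.surjective ⟨σ, hσ⟩
    obtain ⟨g, rfl⟩ := QuotientGroup.mk_surjective x
    refine ⟨g, ?_⟩
    rw [hpi, hx]

end Cfsg.Agent.Lib.Helper10.M23H2
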