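import Mathlib
import Cfsg.Agent.Lib.Helper10.M23H2.Defs2
import Cfsg.Agent.Lib.Helper3.Fus.Groups

set_option autoImplicit false

/-! Kernel certificates for `S2649`. -/

namespace Cfsg.Agent.Lib.Helper10.M23H2

open Cfsg.Agent.Lib.Helper3.Fus

set_option maxRecDepth 100000 in
theorem cert_letters : letT.all memOK23 = true ∧ letT.map pairOf = letN.zip tinvN := by
  decide +kernel

set_option maxRecDepth 100000 in
set_option maxHeartbeats 0 in
theorem cert_idents : idents.all (identOK relL) = true := by decide +kernel

set_option maxRecDepth 100000 in
set_option maxHeartbeats 0 in
theorem cert_hyp : eqB (idents.map (identForm tinvN B0 11 relL)) hypBigL = true := by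
  decide +kernel

set_option maxRecDepth 100000 in
set_option maxHeartbeats 0 in
theorem cert_concl :
    eqB ((List.range 28).map (conclForm tinvN B0 11 SfL relL)) conclBigL = true := by
  decide +kernel

set_option maxRecDepth 100000 in
set_option maxHeartbeats 0 in
theorem cert_linear : certOK (blocks hypBigL) (blocks conclBigL) certL = true := by
  decide +kernel

set_option maxRecDepth 100000 in
set_option maxHeartbeats 0 in
theorem cert_close : closeOK (relL.take 28) nwords 7 closeL = true := by
  decide +kernel

theorem relL_length : relL.length = 45 := by decide +kernel

end Cfsg.Agent.Lib.Helper10.M23H2
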