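import Mathlib
import Cfsg.Agent.Lib.Helper10.M23H2.Dual
import Cfsg.Agent.Lib.Helper3.Fus.Groups

set_option autoImplicit false

/-! Kernel certificates for `S2651`. -/

namespace Cfsg.Agent.Lib.Helper10.M23H2

open Cfsg.Agent.Lib.Helper3.Fus

set_option maxRecDepth 100000 in
set_option maxHeartbeats 0 in
theorem cert_hyp2 : eqB (idents.map (identForm tinvN U0 11 relL)) hyp2BigL = true := by
  decide +kernel

set_option maxRecDepth 100000 in
set_option maxHeartbeats 0 in
theorem cert_concl2 :
    eqB ((List.range 28).map (conclForm tinvN U0 11 Sf2L relL)) concl2BigL = true := by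
  decide +kernel

set_option maxRecDepth 100000 in
set_option maxHeartbeats 0 in
theorem cert_linear2 :
    certOK (synds B0 hyp2BigL ++ [ell]) (synds B0 concl2BigL) cert2L = true := by
  decide +kernel

end Cfsg.Agent.Lib.Helper10.M23H2
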