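import Mathlib
import Cfsg.Agent.Lib.Helper10.M23H2.Cert
import Cfsg.Agent.Lib.Helper4.M23H2.LG

set_option autoImplicit false

/-!
From lifts of the polycyclic generators satisfying the polycyclic relators to a subgroup of order
128 meeting the kernel trivially (common to `S2649` and `S2651`).
-/

namespace Cfsg.Agent.Lib.Helper10.M23H2

open Cfsg Cfsg.Agent.Lib.Helper3.Golay
open Cfsg.Agent.Lib.Helper4.M23H2Leaf

theorem getR_take' (R : List Rel) (n r : ℕ) :
    getR (R.take n) r = if r < n then getR R r else ([], []) := by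
  unfold getR
  rw [List.getD_eq_getElem?_getD, List.getD_eq_getElem?_getD, List.getElem?_take]
  split_ifs <;> rfl

theorem evalP_mem' {E : Type*} [Group E] (H : Subgroup E) (x : ℕ → E) :
    ∀ w : List ℕ, (∀ i ∈ w, x i ∈ H) → evalP x w ∈ H := by
  intro w
  induction w with
  | nil => intro _; rw [evalP_nil]; exact H.one_mem
  | cons i w ih =>
    intro h
    rw [evalP_cons]
    exact H.mul_mem (h i List.mem_cons_self) (ih (fun j hj => h j (List.mem_cons_of_mem _ hj)))

theorem complement_of_relators {E : Type*} [Group E] [Finite E] (N : Subgroup E)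
    (pi : E →* Equiv.Perm GolayPt) (hN : ∀ g, g ∈ N ↔ pi g = 1)
    (sig : ℕ → Equiv.Perm GolayPt)
    (hdist : ∀ w ∈ nwords, ∀ w' ∈ nwords, evalP sig w = evalP sig w' → w = w')
    (x : ℕ → E) (hpi : ∀ i, pi (x i) = sig i)
    (hx : ∀ r < 28, evalP x (getR relL r).1 = evalP x (getR relL r).2) :
    ∃ A : Subgroup E, A ⊓ N = ⊥ ∧ Nat.card A = 128 := by
  have hx28 : ∀ r, evalP x (getR (relL.take 28) r).1 = evalP x (getR (relL.take 28) r).2 := by
    intro r
    rw [getR_take']
    split_ifs with h
    · exact hx r h
    · rfl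
  have hpix : ∀ w, pi (evalP x w) = evalP sig w := by
    intro w
    rw [evalP_map]
    congr 1
    funext i
    exact hpi i
  have hcl := closure_words x (relL.take 28) nwords 7 closeL hx28 nwords_nil cert_close
  refine ⟨Subgroup.closure (Set.range (fun i : Fin 7 => x i)), ?_, ?_⟩
  · rw [Subgroup.eq_bot_iff_forall]
    intro g hg
    obtain ⟨hgA, hgN⟩ := Subgroup.mem_inf.mp hg
    obtain ⟨w, hw, rfl⟩ := hcl g hgA
    have h1 : evalP sig w = evalP sig [] := by
      rw [← hpix, (hN _).mp hgN, evalP_nil]
    rw [hdist w hw [] nwords_nil h1, evalP_nil]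
  · have hmemA : ∀ w ∈ nwords, evalP x w ∈
        Subgroup.closure (Set.range (fun i : Fin 7 => x i)) := by
      intro w hw
      apply evalP_mem'
      intro i hi
      exact Subgroup.subset_closure ⟨⟨i, nwords_lt w hw i hi⟩, rfl⟩
    have hset : ((Subgroup.closure (Set.range (fun i : Fin 7 => x i)) : Subgroup E) : Set E) =
        (fun w => evalP x w) '' (↑nwords.toFinset : Set (List ℕ)) := by
      ext g
      constructor
      · intro hg
        obtain ⟨w, hw, rfl⟩ := hcl g hg
        exact ⟨w, by simpa using hw, rfl⟩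
      · rintro ⟨w, hw, rfl⟩
        exact hmemA w (by simpa using hw)
    have hinj : Set.InjOn (fun w => evalP x w) (↑nwords.toFinset : Set (List ℕ)) := by
      intro w hw w' hw' h
      have hw1 : w ∈ nwords := by simpa using hw
      have hw2 : w' ∈ nwords := by simpa using hw'
      apply hdist w hw1 w' hw2
      rw [← hpix, ← hpix]
      exact congrArg pi h
    rw [← SetLike.coe_sort_coe, Nat.card_coe_set_eq, hset, Set.InjOn.ncard_image hinj,
      Set.ncard_coe_finset, List.toFinset_card_of_nodup nwords_nodup, nwords_length]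

end Cfsg.Agent.Lib.Helper10.M23H2
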