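import Mathlib
import Cfsg.Agent.Lib.Helper10.M23H2.Cert

set_option autoImplicit false

/-!
The side of the permutations in `S2649`: the ten letters are elements of `M23` satisfying the
relators, the traces of the inverse tables compute the inverses of the words, and the 128 normal
words give distinct permutations.
-/

namespace Cfsg.Agent.Lib.Helper10.M23H2

open Cfsg Cfsg.Agent.Lib.Helper3.Golay
open Cfsg.Agent.Lib.Helper3.Fus

set_option maxRecDepth 100000 in
set_option maxHeartbeats 0 in
theorem cert_relPerm : relPermOK tinvN relL = true := by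
  decide +kernel

set_option maxRecDepth 100000 in
set_option maxHeartbeats 0 in
theorem cert_distinct : distinctOK tinvN nwords = true := by
  decide +kernel

set_option maxRecDepth 100000 in
set_option maxHeartbeats 0 in
theorem cert_pairs : allBelow 10 (fun i =>
    Nat.beq (pairOf (letT.getD i [])).1 (letN.getD i idN) &&
      Nat.beq (pairOf (letT.getD i [])).2 (tinvN.getD i idN)) = true := by
  decide +kernel

theorem letT_length : letT.length = 10 := by decide +kernel
theorem letN_length : letN.length = 10 := by decide +kernel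
theorem tinvN_length : tinvN.length = 10 := by decide +kernel

/-- the letters -/
theorem exists_letter (i : ℕ) : ∃ σ : Equiv.Perm GolayPt, σ ∈ Cfsg.Spor.M23 ∧
    HasN σ (letN.getD i idN) ∧ HasN σ⁻¹ (tinvN.getD i idN) := by
  by_cases hi : i < 10
  · have hT : letT.getD i [] ∈ letT := by
      rw [List.getD_eq_getElem _ _ (by rw [letT_length]; exact hi)]
      exact List.getElem_mem _
    obtain ⟨σ, hσ, h1, h2⟩ := tsound23 cert_letters.1 _ hT
    have hc := (allBelow_iff _ _).mp cert_pairs i hi
    simp only [Bool.and_eq_true] at hc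
    have hc1 := Nat.eq_of_beq_eq_true hc.1
    have hc2 := Nat.eq_of_beq_eq_true hc.2
    refine ⟨σ, hσ, ?_, ?_⟩
    · rw [← hc1]; exact h1.hasN
    · rw [← hc2]; exact h2.hasN
  · push Not at hi
    refine ⟨1, Subgroup.one_mem _, ?_, ?_⟩
    · rw [List.getD_eq_default _ _ (by rw [letN_length]; exact hi)]; exact HasN.one
    · rw [List.getD_eq_default _ _ (by rw [tinvN_length]; exact hi), inv_one]; exact HasN.one

theorem traceI_cons (tinv : List ℕ) (l : ℕ) (A : List ℕ) (q : ℕ) :
    traceI tinv (l :: A) q = traceI tinv A (lookN (tinv.getD l idN) q) := rfl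

/-- the traces compute the inverses of the words -/
theorem traceI_sound (sig : ℕ → Equiv.Perm GolayPt) (tinv : List ℕ)
    (h : ∀ i, HasN (sig i)⁻¹ (tinv.getD i idN)) :
    ∀ (A : List ℕ) (p : GolayPt), traceI tinv A (idx p) = idx ((evalP sig A)⁻¹ p) := by
  intro A
  induction A with
  | nil =>
    intro p
    show idx p = idx ((evalP sig [])⁻¹ p)
    rw [evalP_nil, inv_one, Equiv.Perm.one_apply]
  | cons l A ih =>
    intro p
    have h1 := h l (idx p) (idx_lt p)
    rw [pt_idx] at h1
    rw [traceI_cons, ← h1, ih, evalP_cons, mul_inv_rev, Equiv.Perm.mul_apply]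

theorem getR_mem_or (R : List Rel) (r : ℕ) : getR R r ∈ R ∨ getR R r = ([], []) := by
  unfold getR
  by_cases h : r < R.length
  · left
    rw [List.getD_eq_getElem _ _ h]
    exact List.getElem_mem _
  · right
    push Not at h
    exact List.getD_eq_default _ _ h

theorem perm_eq_of_trace (sig : ℕ → Equiv.Perm GolayPt) (tinv : List ℕ)
    (htr : ∀ (A : List ℕ) (p : GolayPt), traceI tinv A (idx p) = idx ((evalP sig A)⁻¹ p))
    (u v : List ℕ) (h : ∀ q < 24, traceI tinv u q = traceI tinv v q) :
    evalP sig u = evalP sig v := by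
  apply inv_injective
  apply Equiv.ext
  intro p
  apply idx_injective
  rw [← htr, ← htr]
  exact h _ (idx_lt p)

theorem perm_side : ∃ sig : ℕ → Equiv.Perm GolayPt,
    (∀ i, sig i ∈ Cfsg.Spor.M23) ∧
    (∀ A p, traceI tinvN A (idx p) = idx ((evalP sig A)⁻¹ p)) ∧
    (∀ r, evalP sig (getR relL r).1 = evalP sig (getR relL r).2) ∧
    (∀ w ∈ nwords, ∀ w' ∈ nwords, evalP sig w = evalP sig w' → w = w') := by
  choose sig h1 h2 h3 using exists_letter
  have htr := traceI_sound sig tinvN h3
  refine ⟨sig, h1, htr, ?_, ?_⟩
  · intro r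
    rcases getR_mem_or relL r with h | h
    · have hc := List.all_eq_true.mp cert_relPerm _ h
      apply perm_eq_of_trace sig tinvN htr
      intro q hq
      have := (allBelow_iff _ _).mp hc q hq
      exact Nat.eq_of_beq_eq_true this
    · rw [h]
  · intro w hw w' hw' h
    have hnd : (nwords.map (invCode tinvN)).Nodup := nodupB_sound cert_distinct
    apply List.inj_on_of_nodup_map hnd hw hw'
    unfold invCode
    apply packN_congr
    intro q hq
    have e1 := htr w (pt q)
    have e2 := htr w' (pt q)
    rw [idx_pt hq] at e1 e2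
    rw [e1, e2, h]

end Cfsg.Agent.Lib.Helper10.M23H2
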