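import Mathlib
import Cfsg.Agent.Lib.Helper10.M23H2.Cert
import Cfsg.Agent.Lib.Helper10.M23H2.PermSide
import Cfsg.Agent.Lib.Helper10.M23H2.Coords
import Cfsg.Agent.Lib.Helper4.M23H2.LF1
import Cfsg.Agent.Lib.Helper4.M23H2.LF2
import Cfsg.Agent.Lib.Helper4.M23H2.LB
import Cfsg.Agent.Lib.Helper4.M23H2.LG

set_option autoImplicit false

/-!
The core of `S2649`: in the abstract setting the preimage of a Sylow 2-subgroup of `M23` splits over
the kernel.
-/

namespace Cfsg.Agent.Lib.Helper10.M23H2

open Cfsg Cfsg.Agent.Lib.Helper3.Golay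
open Cfsg.Agent.Lib.Helper3.Fus (eqB eqB_sound)
open Cfsg.Agent.Lib.Helper4.M23H2Leaf

theorem identOK_spec {R : List Rel} {I : Ident} (h : identOK R I = true) :
    ∃ e1 e3, runD R I.1.1 I.2.1 = some e1 ∧ runD R I.1.2 I.2.2.1 = some e1 ∧
      runD R I.1.1 I.2.2.2.1 = some e3 ∧ runD R I.1.2 I.2.2.2.2 = some e3 := by
  unfold identOK at h
  cases h1 : runD R I.1.1 I.2.1 with
  | none => rw [h1] at h; simp at h
  | some e1 =>
    cases h2 : runD R I.1.2 I.2.2.1 with
    | none => rw [h1, h2] at h; simp at h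
    | some e2 =>
      cases h3 : runD R I.1.1 I.2.2.2.1 with
      | none => rw [h1, h2, h3] at h; simp at h
      | some e3 =>
        cases h4 : runD R I.1.2 I.2.2.2.2 with
        | none => rw [h1, h2, h3, h4] at h; simp at h
        | some e4 =>
          rw [h1, h2, h3, h4] at h
          simp only [Bool.and_eq_true] at h
          have k1 := eqB_sound h.1
          have k2 := eqB_sound h.2
          exact ⟨e1, e3, rfl, by rw [k1], rfl, by rw [k2]⟩

theorem getR_big {R : List Rel} {r : ℕ} (h : R.length ≤ r) : getR R r = ([], []) := by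
  unfold getR
  rw [List.getD_eq_getElem?_getD, List.getElem?_eq_none h]
  rfl

theorem getR_take (R : List Rel) (n r : ℕ) :
    getR (R.take n) r = if r < n then getR R r else ([], []) := by
  unfold getR
  rw [List.getD_eq_getElem?_getD, List.getD_eq_getElem?_getD, List.getElem?_take]
  split_ifs <;> rfl

theorem tailE_nil {E : Type*} [Group E] (y : ℕ → E) : tailE y ([], []) = 1 := by
  unfold tailE
  rw [evalP_nil, inv_one, mul_one]

theorem evalP_mem {E : Type*} [Group E] (H : Subgroup E) (x : ℕ → E) :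
    ∀ w : List ℕ, (∀ i ∈ w, x i ∈ H) → evalP x w ∈ H := by
  intro w
  induction w with
  | nil => intro _; rw [evalP_nil]; exact H.one_mem
  | cons i w ih =>
    intro h
    rw [evalP_cons]
    exact H.mul_mem (h i List.mem_cons_self) (ih (fun j hj => h j (List.mem_cons_of_mem _ hj)))

theorem char2_aux (u1 u2 u3 u4 : GolayPt → ZMod 2) (h : u3 + u1 = u4 + u2) :
    (u1 + u2) + (u3 + u4) = 0 := by
  funext p
  have hp := congrFun h p
  simp only [Pi.add_apply, Pi.zero_apply] at hp ⊢
  revert hp
  generalize u1 p = a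
  generalize u2 p = b
  generalize u3 p = c
  generalize u4 p = d
  revert a b c d
  decide

section core

variable {E : Type*} [Group E] (S : Setting E)

/-- the variables: the coordinates of the tails -/
def aOf (c : ℕ → E) : ℕ → ZMod 2 := fun k => S.psi (c (k / 11)) (pt (k % 11 + 1))

theorem tail_mem (sig : ℕ → Equiv.Perm GolayPt) (y : ℕ → E) (hy : ∀ i, S.pi (y i) = sig i)
    (hrel : ∀ r, evalP sig (getR relL r).1 = evalP sig (getR relL r).2) (r : ℕ) :
    tailE y (getR relL r) ∈ S.N := by
  have hy' : (fun i => S.pi (y i)) = sig := funext hy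
  rw [S.mem_N]
  unfold tailE
  rw [map_mul, map_inv, evalP_map, evalP_map, hy', hrel r, mul_inv_cancel]

theorem tail_bridge (c : ℕ → E) (hcN : ∀ r, c r ∈ S.N) (hbig : ∀ r, 45 ≤ r → c r = 1) (r : ℕ) :
    S.psi (c r) = evalSV (aOf S c) 495 (tailB B0 11 r) := by
  by_cases hr : r < 45
  · rw [evalSV_tailB (aOf S c) (by decide : 495 ≤ bw) B0 11 r (by omega)]
    have h1 := c0_coords (S.psi (c r)) (S.psi_mem _ (hcN r)).1 (S.psi_mem _ (hcN r)).2
    conv_lhs => rw [h1]
    funext p
    apply Finset.sum_congr rfl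
    intro j hj
    rw [Finset.mem_range] at hj
    unfold aOf
    have e1 : (11 * r + j) / 11 = r := by omega
    have e2 : (11 * r + j) % 11 = j := by omega
    rw [e1, e2]
  · push Not at hr
    rw [evalSV_tailB_big (aOf S c) B0 11 r (by omega), hbig r hr, S.psi_one]

/-- the symbolic vectors of the identities vanish -/
theorem ident_vanish (sig : ℕ → Equiv.Perm GolayPt) (y : ℕ → E) (hy : ∀ i, S.pi (y i) = sig i)
    (htr : ∀ A p, traceI tinvN A (idx p) = idx ((evalP sig A)⁻¹ p))
    (a : ℕ → ZMod 2)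
    (hc : ∀ r, tailE y (getR relL r) ∈ S.N ∧
      S.psi (tailE y (getR relL r)) = evalSV a 495 (tailB B0 11 r))
    (I : Ident) (hI : identOK relL I = true) :
    evalSV a 495 (identForm tinvN B0 11 relL I) = 0 := by
  obtain ⟨e1, e3, h1, h2, h3, h4⟩ := identOK_spec hI
  have hb := conj_bridge S sig y hy tinvN htr a (by decide : 495 ≤ bw) B0 11 relL hc
  have key := ident_sound y relL I.1.1 I.1.2 e1 e3 I.2.1 I.2.2.1 I.2.2.2.1 I.2.2.2.2 h1 h2 h3 h4
  have k := congrArg S.psi key
  rw [S.psi_mul _ (S.N.inv_mem (hb I.2.2.2.1 I.1.1).1) _ (hb I.2.1 I.1.1).1,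
    S.psi_mul _ (S.N.inv_mem (hb I.2.2.2.2 I.1.2).1) _ (hb I.2.2.1 I.1.2).1,
    S.psi_inv (hb I.2.2.2.1 I.1.1).1, S.psi_inv (hb I.2.2.2.2 I.1.2).1,
    (hb I.2.2.2.1 I.1.1).2, (hb I.2.1 I.1.1).2, (hb I.2.2.2.2 I.1.2).2, (hb I.2.2.1 I.1.2).2] at k
  unfold identForm
  rw [evalSV_xor, evalSV_xor, evalSV_xor]
  exact char2_aux _ _ _ _ k

/-- the symbolic vectors of the corrected tails vanish -/
theorem concl_vanish (a : ℕ → ZMod 2)
    (hI : ∀ I ∈ idents, evalSV a 495 (identForm tinvN B0 11 relL I) = 0) :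
    ∀ r < 28, evalSV a 495 (conclForm tinvN B0 11 SfL relL r) = 0 := by
  have e1 : idents.map (identForm tinvN B0 11 relL) = hypBigL := eqB_sound cert_hyp
  have e2 : (List.range 28).map (conclForm tinvN B0 11 SfL relL) = conclBigL := eqB_sound cert_concl
  have h1 : ∀ sv ∈ hypBigL, evalSV a 495 sv = 0 := by
    intro sv hsv
    rw [← e1, List.mem_map] at hsv
    obtain ⟨I, hI1, rfl⟩ := hsv
    exact hI I hI1
  have h2 := blocks_val_zero a 495 h1
  have h3 := certOK_sound a 495 cert_linear h2
  have h4 := evalSV_zero_of_blocks a 495 h3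
  intro r hr
  apply h4
  rw [← e2, List.mem_map]
  exact ⟨r, List.mem_range.mpr hr, rfl⟩

/-- the corrections -/
theorem exists_corrections (a : ℕ → ZMod 2) :
    ∃ m : ℕ → E, ∀ i, m i ∈ S.N ∧ S.psi (m i) = evalSV a 495 (mB B0 11 SfL i) := by
  have h : ∀ i, ∃ n, n ∈ S.N ∧ S.psi n = evalSV a 495 (mB B0 11 SfL i) := by
    intro i
    rw [evalSV_mB a (by decide : 495 ≤ bw) B0 11 SfL i]
    have hm := c0_mem (fun j => val a 495 ((SfL.getD i []).getD j 0))
    exact S.psi_surj _ hm.1 hm.2
  choose m hm using h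
  exact ⟨m, hm⟩

/-- the corrected lifts satisfy the polycyclic relators -/
theorem corrected_rel (sig : ℕ → Equiv.Perm GolayPt) (y : ℕ → E) (hy : ∀ i, S.pi (y i) = sig i)
    (htr : ∀ A p, traceI tinvN A (idx p) = idx ((evalP sig A)⁻¹ p))
    (a : ℕ → ZMod 2)
    (hc : ∀ r, tailE y (getR relL r) ∈ S.N ∧
      S.psi (tailE y (getR relL r)) = evalSV a 495 (tailB B0 11 r))
    (m : ℕ → E) (hm : ∀ i, m i ∈ S.N ∧ S.psi (m i) = evalSV a 495 (mB B0 11 SfL i))
    (hconcl : ∀ r < 28, evalSV a 495 (conclForm tinvN B0 11 SfL relL r) = 0) :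
    ∀ r < 28, evalP (fun i => m i * y i) (getR relL r).1 =
      evalP (fun i => m i * y i) (getR relL r).2 := by
  intro r hr
  have hf := fox_bridge S sig y hy tinvN htr a (by decide : 495 ≤ bw) B0 11 SfL m hm
  have h1 := tail_perturb y m (getR relL r)
  have hN1 := (hf (getR relL r).1 []).1
  have hN2 := (hf (getR relL r).2 []).1
  have hmem : tailE (fun i => m i * y i) (getR relL r) ∈ S.N := by
    rw [h1]
    exact S.N.mul_mem (S.N.mul_mem hN1 (hc r).1) (S.N.inv_mem hN2)
  have hpsi : S.psi (tailE (fun i => m i * y i) (getR relL r)) = 0 := by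
    rw [h1, S.psi_mul _ (S.N.mul_mem hN1 (hc r).1) _ (S.N.inv_mem hN2), S.psi_inv hN2,
      S.psi_mul _ hN1 _ (hc r).1, (hf (getR relL r).1 []).2, (hf (getR relL r).2 []).2, (hc r).2]
    have h2 := hconcl r hr
    unfold conclForm at h2
    rw [evalSV_xor, evalSV_xor] at h2
    rw [← h2]
    abel
  have h3 := S.psi_inj _ hmem hpsi
  unfold tailE at h3
  exact mul_inv_eq_one.mp h3

/-- the core: a subgroup of order 128 meeting the kernel trivially -/
theorem core_complement [Finite E] : ∃ A : Subgroup E, A ⊓ S.N = ⊥ ∧ Nat.card A = 128 := by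
  obtain ⟨sig, hsigM, htr, hrel, hdist⟩ := perm_side
  -- lifts of the letters
  have hy0 : ∀ i, ∃ g, S.pi g = sig i := fun i => S.pi_surj _ (hsigM i)
  choose y hy using hy0
  have hy' : (fun i => S.pi (y i)) = sig := funext hy
  -- the tails and their coordinates
  have hcN : ∀ r, tailE y (getR relL r) ∈ S.N := tail_mem S sig y hy hrel
  have hbig : ∀ r, 45 ≤ r → tailE y (getR relL r) = 1 := by
    intro r hr
    rw [getR_big (by rw [relL_length]; exact hr), tailE_nil]
  have hc : ∀ r, tailE y (getR relL r) ∈ S.N ∧ S.psi (tailE y (getR relL r)) =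
      evalSV (aOf S (fun r => tailE y (getR relL r))) 495 (tailB B0 11 r) :=
    fun r => ⟨hcN r, tail_bridge S (fun r => tailE y (getR relL r)) hcN hbig r⟩
  generalize aOf S (fun r => tailE y (getR relL r)) = a at hc
  -- the identities
  have hI : ∀ I ∈ idents, evalSV a 495 (identForm tinvN B0 11 relL I) = 0 := by
    intro I hI
    exact ident_vanish S sig y hy htr a hc I (List.all_eq_true.mp cert_idents I hI)
  have hconcl := concl_vanish a hI
  -- the corrected lifts
  obtain ⟨m, hm⟩ := exists_corrections S a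
  have hx := corrected_rel S sig y hy htr a hc m hm hconcl
  have hx28 : ∀ r, evalP (fun i => m i * y i) (getR (relL.take 28) r).1 =
      evalP (fun i => m i * y i) (getR (relL.take 28) r).2 := by
    intro r
    rw [getR_take]
    split_ifs with h
    · exact hx r h
    · rfl
  have hpix : ∀ w, S.pi (evalP (fun i => m i * y i) w) = evalP sig w := by
    intro w
    rw [evalP_map]
    congr 1
    funext i
    rw [map_mul, (S.mem_N _).mp (hm i).1, one_mul, hy]
  -- the closure
  have hcl := closure_words (fun i => m i * y i) (relL.take 28) nwords 7 closeL hx28 nwords_nil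
    cert_close
  refine ⟨Subgroup.closure (Set.range (fun i : Fin 7 => m i * y i)), ?_, ?_⟩
  · rw [Subgroup.eq_bot_iff_forall]
    intro g hg
    obtain ⟨hgA, hgN⟩ := Subgroup.mem_inf.mp hg
    obtain ⟨w, hw, rfl⟩ := hcl g hgA
    have h1 : evalP sig w = evalP sig [] := by
      rw [← hpix, (S.mem_N _).mp hgN, evalP_nil]
    rw [hdist w hw [] nwords_nil h1, evalP_nil]
  · have hmemA : ∀ w ∈ nwords, evalP (fun i => m i * y i) w ∈
        Subgroup.closure (Set.range (fun i : Fin 7 => m i * y i)) := by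
      intro w hw
      apply evalP_mem
      intro i hi
      exact Subgroup.subset_closure ⟨⟨i, nwords_lt w hw i hi⟩, rfl⟩
    have hset : ((Subgroup.closure (Set.range (fun i : Fin 7 => m i * y i)) : Subgroup E) : Set E) =
        (fun w => evalP (fun i => m i * y i) w) '' (↑nwords.toFinset : Set (List ℕ)) := by
      ext g
      constructor
      · intro hg
        obtain ⟨w, hw, rfl⟩ := hcl g hg
        exact ⟨w, by simpa using hw, rfl⟩
      · rintro ⟨w, hw, rfl⟩
        exact hmemA w (by simpa using hw)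
    have hinj : Set.InjOn (fun w => evalP (fun i => m i * y i) w)
        (↑nwords.toFinset : Set (List ℕ)) := by
      intro w hw w' hw' h
      have hw1 : w ∈ nwords := by simpa using hw
      have hw2 : w' ∈ nwords := by simpa using hw'
      apply hdist w hw1 w' hw2
      rw [← hpix, ← hpix]
      exact congrArg S.pi h
    rw [← SetLike.coe_sort_coe, Nat.card_coe_set_eq, hset, Set.InjOn.ncard_image hinj,
      Set.ncard_coe_finset, List.toFinset_card_of_nodup nwords_nodup, nwords_length]

end core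

end Cfsg.Agent.Lib.Helper10.M23H2
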