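import Mathlib
import Cfsg.Agent.Lib.Helper10.M23H2.Cert2
import Cfsg.Agent.Lib.Helper10.M23H2.Closure
import Cfsg.Agent.Lib.Helper10.M23H2.CSet
import Cfsg.Agent.Lib.Helper4.M23H2.LF1
import Cfsg.Agent.Lib.Helper4.M23H2.LF2
import Cfsg.Agent.Lib.Helper4.M23H2.D1
import Cfsg.Agent.Lib.Helper4.M23H2.D4
import Cfsg.Agent.Lib.Helper10.M23H2.Core

set_option autoImplicit false

/-!
The core of `S2651`: in an extension of `M23` by the cocode module in which the obstruction `ell`
vanishes on the coordinates of the tails, the preimage of a Sylow 2-subgroup splits over the kernel.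
-/

namespace Cfsg.Agent.Lib.Helper10.M23H2

open Cfsg Cfsg.Agent.Lib.Helper3.Golay
open Cfsg.Agent.Lib.Helper3.Fus (eqB eqB_sound)
open Cfsg.Agent.Lib.Helper4.M23H2Leaf

theorem U0_length : U0.length = 11 := by decide +kernel

theorem exists_fun_eq {α β : Type*} (f : α → β) : ∃ m : α → β, ∀ i, f i = m i :=
  ⟨f, fun _ => rfl⟩

section ccore

variable {E : Type*} [Group E] (S : CSetting E)

theorem ctail_mem (sig : ℕ → Equiv.Perm GolayPt) (y : ℕ → E) (hy : ∀ i, S.pi (y i) = sig i)
    (hrel : ∀ r, evalP sig (getR relL r).1 = evalP sig (getR relL r).2) (r : ℕ) :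
    tailE y (getR relL r) ∈ S.N := by
  have hy' : (fun i => S.pi (y i)) = sig := funext hy
  rw [S.mem_N]
  unfold tailE
  rw [map_mul, map_inv, evalP_map, evalP_map, hy', hrel r, mul_inv_cancel]

theorem ctail_bridge (y : ℕ → E) (hcN : ∀ r, tailE y (getR relL r) ∈ S.N) (r : ℕ) :
    S.theta (evalSV (S.aOf y) 495 (tailB U0 11 r)) = tailE y (getR relL r) := by
  by_cases hr : r < 45
  · rw [evalSV_tailB (S.aOf y) (by decide : 495 ≤ bw) U0 11 r (by omega)]
    have h1 := theta_coords S _ (hcN r)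
    conv_rhs => rw [← h1]
    congr 1
    funext p
    apply Finset.sum_congr rfl
    intro j hj
    rw [Finset.mem_range] at hj
    unfold CSetting.aOf
    have e1 : (11 * r + j) / 11 = r := by omega
    have e2 : (11 * r + j) % 11 = j := by omega
    rw [e1, e2]
  · push Not at hr
    rw [evalSV_tailB_big (S.aOf y) U0 11 r (by omega),
      getR_big (by rw [relL_length]; exact hr), tailE_nil, S.theta_zero]

/-- the symbolic vectors of the identities represent `1` -/
theorem cident_vanish (sig : ℕ → Equiv.Perm GolayPt) (y : ℕ → E) (hy : ∀ i, S.pi (y i) = sig i)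
    (htr : ∀ A p, traceI tinvN A (idx p) = idx ((evalP sig A)⁻¹ p))
    (a : ℕ → ZMod 2)
    (hc : ∀ r, S.theta (evalSV a 495 (tailB U0 11 r)) = tailE y (getR relL r))
    (I : Ident) (hI : identOK relL I = true) :
    S.theta (evalSV a 495 (identForm tinvN U0 11 relL I)) = 1 := by
  obtain ⟨e1, e3, h1, h2, h3, h4⟩ := identOK_spec hI
  have hb := conj_bridge2 S sig y hy tinvN htr a (by decide : 495 ≤ bw) U0 11 relL hc
  have key := ident_sound y relL I.1.1 I.1.2 e1 e3 I.2.1 I.2.2.1 I.2.2.2.1 I.2.2.2.2 h1 h2 h3 h4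
  rw [← hb, ← hb, ← hb, ← hb, S.theta_inv, S.theta_inv, ← S.theta_add, ← S.theta_add] at key
  unfold identForm
  rw [evalSV_xor, evalSV_xor, evalSV_xor]
  set F1 := evalSV a 495 (formD tinvN U0 11 relL I.1.1 I.2.1)
  set F2 := evalSV a 495 (formD tinvN U0 11 relL I.1.2 I.2.2.1)
  set F3 := evalSV a 495 (formD tinvN U0 11 relL I.1.1 I.2.2.2.1)
  set F4 := evalSV a 495 (formD tinvN U0 11 relL I.1.2 I.2.2.2.2)
  have e : F1 + F2 + (F3 + F4) = (F3 + F1) + (F4 + F2) := by abel
  rw [e, S.theta_add, key, S.theta_sq]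

/-- the symbolic vectors of the corrected tails represent `1` -/
theorem cconcl_vanish (a : ℕ → ZMod 2) (hell : val a 495 ell = 0)
    (hI : ∀ I ∈ idents, S.theta (evalSV a 495 (identForm tinvN U0 11 relL I)) = 1) :
    ∀ r < 28, S.theta (evalSV a 495 (conclForm tinvN U0 11 Sf2L relL r)) = 1 := by
  have e1 : idents.map (identForm tinvN U0 11 relL) = hyp2BigL := eqB_sound cert_hyp2
  have e2 : (List.range 28).map (conclForm tinvN U0 11 Sf2L relL) = concl2BigL :=
    eqB_sound cert_concl2
  have h1 : ∀ sv ∈ hyp2BigL, ∀ b ∈ B0, dotM (evalSV a 495 sv) b = 0 := by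
    intro sv hsv
    rw [← e1, List.mem_map] at hsv
    obtain ⟨I, hI1, rfl⟩ := hsv
    exact (theta_eq_one_iff S _).mp (hI I hI1)
  have h2 := synds_val_zero a 495 h1
  have h2' : ∀ f ∈ synds B0 hyp2BigL ++ [ell], val a 495 f = 0 := by
    intro f hf
    rcases List.mem_append.mp hf with h | h
    · exact h2 f h
    · rw [List.mem_singleton.mp h]; exact hell
  have h3 := certOK_sound a 495 cert_linear2 h2'
  have h4 := dot_zero_of_synds a 495 h3
  intro r hr
  rw [theta_eq_one_iff S]
  apply h4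
  rw [← e2, List.mem_map]
  exact ⟨r, List.mem_range.mpr hr, rfl⟩

/-- the core: if the obstruction vanishes there is a subgroup of order 128 meeting the kernel
trivially -/
theorem ccore [Finite E] (sig : ℕ → Equiv.Perm GolayPt)
    (htr : ∀ A p, traceI tinvN A (idx p) = idx ((evalP sig A)⁻¹ p))
    (hrel : ∀ r, evalP sig (getR relL r).1 = evalP sig (getR relL r).2)
    (hdist : ∀ w ∈ nwords, ∀ w' ∈ nwords, evalP sig w = evalP sig w' → w = w')
    (y : ℕ → E) (hy : ∀ i, S.pi (y i) = sig i) (hell : val (S.aOf y) 495 ell = 0) :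
    ∃ A : Subgroup E, A ⊓ S.N = ⊥ ∧ Nat.card A = 128 := by
  have hcN : ∀ r, tailE y (getR relL r) ∈ S.N := ctail_mem S sig y hy hrel
  have hc := ctail_bridge S y hcN
  generalize S.aOf y = a at hc hell
  have hI : ∀ I ∈ idents, S.theta (evalSV a 495 (identForm tinvN U0 11 relL I)) = 1 := by
    intro I hI
    exact cident_vanish S sig y hy htr a hc I (List.all_eq_true.mp cert_idents I hI)
  have hconcl := cconcl_vanish S a hell hI
  -- the corrected lifts
  obtain ⟨m, hm⟩ := exists_fun_eq (fun i => S.theta (evalSV a 495 (mB U0 11 Sf2L i)))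
  have hf := fox_bridge2 S sig y hy tinvN htr a (by decide : 495 ≤ bw) U0 11 Sf2L m hm
  apply complement_of_relators S.N S.pi S.mem_N sig hdist (fun i => m i * y i)
  · intro i
    rw [map_mul, ← hm i, (S.mem_N _).mp (S.theta_mem _), one_mul, hy]
  · intro r hr
    have h1 := tail_perturb y m (getR relL r)
    have h2 : tailE (fun i => m i * y i) (getR relL r) = 1 := by
      rw [h1, ← hf, ← hf, ← hc r, S.theta_inv, ← S.theta_add, ← S.theta_add]
      have h3 := hconcl r hr
      unfold conclForm at h3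
      rw [evalSV_xor, evalSV_xor] at h3
      rw [← h3]
      exact congrArg S.theta (by abel)
    unfold tailE at h2
    exact mul_inv_eq_one.mp h2

end ccore

end Cfsg.Agent.Lib.Helper10.M23H2
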