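import Mathlib
import Cfsg.Agent.S0051

set_option autoImplicit false

/-!
Leaf D5 of `S2651` (generic version of helper18's `LFin`): a commutative normal subgroup `N` of
exponent two and index `|M23|`, with a subgroup `A` of order 128 meeting it trivially, has a
complement (Gaschütz, `S0051`).
-/

namespace Cfsg.Agent.Lib.Helper10.M23H2

theorem complement_of_core2 {E : Type*} [Group E] [Finite E] (N : Subgroup E) [N.Normal]
    (hcomm : ∀ a ∈ N, ∀ b ∈ N, a * b = b * a) (hsq : ∀ a ∈ N, a * a = 1)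
    (hidx : N.index = 10200960)
    (A : Subgroup E) (hA : A ⊓ N = ⊥) (hcard : Nat.card A = 128) :
    ∃ H : Subgroup E, H ⊓ N = ⊥ ∧ H ⊔ N = ⊤ := by
  classical
  have hcomm' : ∀ a b : ↥N, a * b = b * a := by
    intro a b
    apply Subtype.ext
    exact hcomm a a.2 b b.2
  have : IsMulCommutative ↥N := ⟨⟨hcomm'⟩⟩
  have hsq' : ∀ a : ↥N, a ^ 2 = 1 := by
    intro a
    apply Subtype.ext
    rw [pow_two]
    exact hsq a a.2
  have hp : IsPGroup 2 ↥N := fun a => ⟨1, by rw [pow_one]; exact hsq' a⟩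
  obtain ⟨k, hk⟩ := IsPGroup.iff_card.mp hp
  have hrel : N.relIndex (N ⊔ A) = 128 := by
    rw [Subgroup.relIndex_sup_left, ← Subgroup.inf_relIndex_right, inf_comm, hA,
      Subgroup.relIndex_bot_left, hcard]
  have hmul := Subgroup.relIndex_mul_index (le_sup_left : N ≤ N ⊔ A)
  rw [hrel, hidx] at hmul
  have hU : (N ⊔ A).index = 79695 := by omega
  have hcop : (Nat.card ↥N).Coprime (N ⊔ A).index := by
    rw [hk, hU]
    apply Nat.Coprime.pow_left
    decide
  obtain ⟨H, hH⟩ := Cfsg.Agent.S0051.result N (N ⊔ A) le_sup_left hcop A le_sup_right hA rfl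
  refine ⟨H, ?_, ?_⟩
  · rw [inf_comm]
    exact hH.disjoint.eq_bot
  · rw [sup_comm]
    exact hH.sup_eq_top

end Cfsg.Agent.Lib.Helper10.M23H2
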