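import Mathlib
import Cfsg.Agent.Lib.Helper10.M23H2.DualCore
import Cfsg.Agent.Lib.Helper10.M23H2.Gasch
import Cfsg.Agent.Lib.Helper8.M23H2.D7a
import Cfsg.Agent.Lib.Helper8.M23H2.D7b

set_option autoImplicit false

/-!
The main argument of `S2651`: two non-split extensions of `M23` by the cocode module are isomorphic.
-/

namespace Cfsg.Agent.Lib.Helper10.M23H2

open Cfsg Cfsg.Agent.Lib.Helper3.Golay
open Cfsg.Agent.Lib.Helper4.M23H2Leaf
open Cfsg.Agent.Lib.Helper8.M23H2Leaf

theorem tailE_map {E F : Type*} [Group E] [Group F] (f : E →* F) (y : ℕ → E) (lr : Rel) :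
    f (tailE y lr) = tailE (fun i => f (y i)) lr := by
  unfold tailE
  rw [map_mul, map_inv, evalP_map, evalP_map]

theorem zmod2_eq_one_of_ne_zero {x : ZMod 2} (h : x ≠ 0) : x = 1 := by
  revert x
  decide

/-- in a non-split extension the obstruction does not vanish -/
theorem ell_eq_one {E : Type*} [Group E] [Finite E] (S : CSetting E)
    (hns : ∀ H : Subgroup E, H ⊓ S.N = ⊥ → H ⊔ S.N ≠ ⊤)
    (sig : ℕ → Equiv.Perm GolayPt)
    (htr : ∀ A p, traceI tinvN A (idx p) = idx ((evalP sig A)⁻¹ p))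
    (hrel : ∀ r, evalP sig (getR relL r).1 = evalP sig (getR relL r).2)
    (hdist : ∀ w ∈ nwords, ∀ w' ∈ nwords, evalP sig w = evalP sig w' → w = w')
    (y : ℕ → E) (hy : ∀ i, S.pi (y i) = sig i) : val (S.aOf y) 495 ell = 1 := by
  apply zmod2_eq_one_of_ne_zero
  intro h0
  obtain ⟨A, hA, hcard⟩ := ccore S sig htr hrel hdist y hy h0
  have := csetting_normal S
  obtain ⟨H, h1, h2⟩ := complement_of_core2 S.N (csetting_comm S) (csetting_sq S) (csetting_index S) A hA hcard
  exact hns H h1 h2

theorem dual_main {E : Type*} [Group E] [Finite E] {E' : Type*} [Group E'] [Finite E']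
    (S : CSetting E) (S' : CSetting E')
    (hns : ∀ H : Subgroup E, H ⊓ S.N = ⊥ → H ⊔ S.N ≠ ⊤)
    (hns' : ∀ H : Subgroup E', H ⊓ S'.N = ⊥ → H ⊔ S'.N ≠ ⊤) : Nonempty (E ≃* E') := by
  obtain ⟨sig, hsigM, htr, hrel, hdist⟩ := perm_side
  have hy0 : ∀ i, ∃ g, S.pi g = sig i := fun i => S.pi_surj _ (hsigM i)
  choose y hy using hy0
  have hy0' : ∀ i, ∃ g, S'.pi g = sig i := fun i => S'.pi_surj _ (hsigM i)
  choose y' hy' using hy0'
  have hE := ell_eq_one S hns sig htr hrel hdist y hy
  have hE' := ell_eq_one S' hns' sig htr hrel hdist y' hy'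
  obtain ⟨T, hTpi, hTkap⟩ := baer_setting S S'
  -- the lifts in the fibre product and in the Baer difference
  have hF : ∀ i, (y i, y' i) ∈ baerF S S' := by
    intro i
    show S.pi (y i) = S'.pi (y' i)
    rw [hy, hy']
  obtain ⟨yF, hyF⟩ : ∃ yF : ℕ → baerF S S', ∀ i, yF i = ⟨(y i, y' i), hF i⟩ :=
    ⟨fun i => ⟨(y i, y' i), hF i⟩, fun _ => rfl⟩
  have hyD : ∀ i, T.pi (QuotientGroup.mk (yF i)) = sig i := by
    intro i
    rw [hTpi, hyF]
    exact hy i
  -- the coordinates of the tails add up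
  have hfst : ∀ lr : Rel, (tailE yF lr).1.1 = tailE y lr := by
    intro lr
    have := tailE_map ((MonoidHom.fst E E').comp (baerF S S').subtype) yF lr
    simp only [MonoidHom.coe_comp, Function.comp_apply, Subgroup.coe_subtype,
      MonoidHom.coe_fst] at this
    have e : (fun i => ((yF i : baerF S S') : E × E').1) = y := by
      funext i
      rw [hyF]
    rw [this, e]
  have hsnd : ∀ lr : Rel, (tailE yF lr).1.2 = tailE y' lr := by
    intro lr
    have := tailE_map ((MonoidHom.snd E E').comp (baerF S S').subtype) yF lr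
    simp only [MonoidHom.coe_comp, Function.comp_apply, Subgroup.coe_subtype,
      MonoidHom.coe_snd] at this
    have e : (fun i => ((yF i : baerF S S') : E × E').2) = y' := by
      funext i
      rw [hyF]
    rw [this, e]
  have hmk : ∀ lr : Rel, tailE (fun i => (QuotientGroup.mk (yF i) : BaerD S S')) lr =
      QuotientGroup.mk (tailE yF lr) := by
    intro lr
    exact (tailE_map (QuotientGroup.mk' (baerDelta S S')) yF lr).symm
  have ha : T.aOf (fun i => (QuotientGroup.mk (yF i) : BaerD S S')) =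
      fun k => S.aOf y k + S'.aOf y' k := by
    funext k
    unfold CSetting.aOf
    rw [hmk, hTkap _ _ _ (Nat.mod_lt _ (by norm_num)), hfst, hsnd]
    rw [hfst]
    exact ctail_mem S sig y hy hrel _
  have h0 : val (T.aOf (fun i => (QuotientGroup.mk (yF i) : BaerD S S'))) 495 ell = 0 := by
    rw [ha, val_add, hE, hE']
    decide
  obtain ⟨A, hA, hcard⟩ := ccore T sig htr hrel hdist _ hyD h0
  have := csetting_normal T
  obtain ⟨H, h1, h2⟩ := complement_of_core2 T.N (csetting_comm T) (csetting_sq T) (csetting_index T) A hA hcard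
  exact baer_iso S S' T hTpi H h1 h2

end Cfsg.Agent.Lib.Helper10.M23H2
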