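import Mathlib
import Cfsg.Agent.Lib.Helper3.Fus.Code

set_option autoImplicit false

/-!
Positive words, rewriting derivations and their "tails": if a word is rewritten by replacing the
left side of a relator by its right side, the value of the word changes by a conjugate of the tail
of the relator.  Generic group theory used for the cohomological certificate of `S2649`.
-/

namespace Cfsg.Agent.Lib.Helper10.M23H2

open Cfsg.Agent.Lib.Helper3.Fus (eqB)

/-- the value of a positive word (a list of letters) under an assignment of the letters -/
def evalP {E : Type*} [Monoid E] (y : ℕ → E) : List ℕ → E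
  | [] => 1
  | i :: w => y i * evalP y w

/-- a relator: a pair of positive words (left side, right side) -/
abbrev Rel := List ℕ × List ℕ

/-- the `r`-th relator of a list (the trivial relator outside the list) -/
def getR (R : List Rel) (r : ℕ) : Rel := R.getD r ([], [])

/-- one rewriting step `(p, r)`: replace the left side of relator `r` at position `p` by its right
side -/
def applyStep (R : List Rel) (w : List ℕ) (s : ℕ × ℕ) : Option (List ℕ) :=
  bif eqB ((w.drop s.1).take (getR R s.2).1.length) (getR R s.2).1 then
    some (w.take s.1 ++ ((getR R s.2).2 ++ w.drop (s.1 + (getR R s.2).1.length)))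
  else none

/-- run a derivation -/
def runD (R : List Rel) : List ℕ → List (ℕ × ℕ) → Option (List ℕ)
  | w, [] => some w
  | w, s :: ss =>
    match applyStep R w s with
    | some w' => runD R w' ss
    | none => none

/-- the tail of a relator under an assignment -/
def tailE {E : Type*} [Group E] (y : ℕ → E) (lr : Rel) : E := evalP y lr.1 * (evalP y lr.2)⁻¹

/-- the product of the conjugates of tails picked up along a derivation -/
def conjProd {E : Type*} [Group E] (y : ℕ → E) (R : List Rel) : List ℕ → List (ℕ × ℕ) → E
  | _, [] => 1
  | w, s :: ss =>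
    match applyStep R w s with
    | some w' =>
      evalP y (w.take s.1) * tailE y (getR R s.2) * (evalP y (w.take s.1))⁻¹ * conjProd y R w' ss
    | none => 1

/-- the product of the conjugates of the perturbations of the letters of a word -/
def foxProd {E : Type*} [Group E] (y m : ℕ → E) : List ℕ → List ℕ → E
  | _, [] => 1
  | pre, i :: w => evalP y pre * m i * (evalP y pre)⁻¹ * foxProd y m (pre ++ [i]) w

theorem evalP_nil {E : Type*} [Monoid E] (y : ℕ → E) : evalP y [] = 1 := rfl

theorem evalP_cons {E : Type*} [Monoid E] (y : ℕ → E) (i : ℕ) (w : List ℕ) :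
    evalP y (i :: w) = y i * evalP y w := rfl

theorem evalP_append {E : Type*} [Monoid E] (y : ℕ → E) (u v : List ℕ) :
    evalP y (u ++ v) = evalP y u * evalP y v := by
  induction u with
  | nil => rw [List.nil_append, evalP_nil, one_mul]
  | cons i u ih => rw [List.cons_append, evalP_cons, evalP_cons, ih, mul_assoc]

theorem evalP_map {E F : Type*} [Monoid E] [Monoid F] (f : E →* F) (y : ℕ → E) (w : List ℕ) :
    f (evalP y w) = evalP (fun i => f (y i)) w := by
  induction w with
  | nil => rw [evalP_nil, evalP_nil, map_one]
  | cons i w ih => rw [evalP_cons, evalP_cons, map_mul, ih]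

theorem applyStep_eq {R : List Rel} {w w' : List ℕ} {s : ℕ × ℕ} (h : applyStep R w s = some w') :
    w = w.take s.1 ++ ((getR R s.2).1 ++ w.drop (s.1 + (getR R s.2).1.length)) ∧
    w' = w.take s.1 ++ ((getR R s.2).2 ++ w.drop (s.1 + (getR R s.2).1.length)) := by
  unfold applyStep at h
  cases hb : eqB ((w.drop s.1).take (getR R s.2).1.length) (getR R s.2).1 with
  | false => rw [hb, cond_false] at h; exact absurd h (by simp)
  | true =>
    rw [hb, cond_true] at h
    have h1 := Cfsg.Agent.Lib.Helper3.Fus.eqB_sound hb
    refine ⟨?_, (Option.some.inj h).symm⟩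
    have h2 : w.drop (s.1 + (getR R s.2).1.length) =
        (w.drop s.1).drop (getR R s.2).1.length := by rw [List.drop_drop]
    calc w = w.take s.1 ++ w.drop s.1 := (List.take_append_drop _ _).symm
      _ = w.take s.1 ++ ((w.drop s.1).take (getR R s.2).1.length ++
            (w.drop s.1).drop (getR R s.2).1.length) := by
          rw [List.take_append_drop (getR R s.2).1.length (w.drop s.1)]
      _ = w.take s.1 ++ ((getR R s.2).1 ++ w.drop (s.1 + (getR R s.2).1.length)) := by
          rw [h1, h2]

/-- soundness of a derivation -/
theorem deriv_sound {E : Type*} [Group E] (y : ℕ → E) (R : List Rel) :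
    ∀ (steps : List (ℕ × ℕ)) (w w' : List ℕ), runD R w steps = some w' →
      evalP y w = conjProd y R w steps * evalP y w' := by
  intro steps
  induction steps with
  | nil =>
    intro w w' h
    have : w = w' := Option.some.inj h
    rw [this]
    show evalP y w' = 1 * evalP y w'
    rw [one_mul]
  | cons s ss ih =>
    intro w w' h
    unfold runD at h
    cases hs : applyStep R w s with
    | none => rw [hs] at h; exact absurd h (by simp)
    | some w1 =>
      rw [hs] at h
      have h2 := ih w1 w' h
      obtain ⟨e1, e2⟩ := applyStep_eq hs
      have hc : conjProd y R w (s :: ss) =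
          evalP y (w.take s.1) * tailE y (getR R s.2) * (evalP y (w.take s.1))⁻¹ *
            conjProd y R w1 ss := by
        show (match applyStep R w s with
          | some w' => evalP y (w.take s.1) * tailE y (getR R s.2) * (evalP y (w.take s.1))⁻¹ *
              conjProd y R w' ss
          | none => 1) = _
        rw [hs]
      rw [hc, mul_assoc, ← h2]
      have e1' : evalP y w = evalP y (w.take s.1) * (evalP y (getR R s.2).1 *
          evalP y (w.drop (s.1 + (getR R s.2).1.length))) := by
        conv_lhs => rw [e1]
        rw [evalP_append, evalP_append]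
      have e2' : evalP y w1 = evalP y (w.take s.1) * (evalP y (getR R s.2).2 *
          evalP y (w.drop (s.1 + (getR R s.2).1.length))) := by
        rw [e2, evalP_append, evalP_append]
      rw [e1', e2']
      unfold tailE
      group

/-- the value of a word under perturbed letters -/
theorem evalP_perturb {E : Type*} [Group E] (y m : ℕ → E) :
    ∀ (w pre : List ℕ), evalP y pre * evalP (fun i => m i * y i) w =
      foxProd y m pre w * evalP y (pre ++ w) := by
  intro w
  induction w with
  | nil =>
    intro pre
    show evalP y pre * 1 = 1 * evalP y (pre ++ [])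
    rw [List.append_nil, mul_one, one_mul]
  | cons i w ih =>
    intro pre
    have h1 := ih (pre ++ [i])
    rw [evalP_append, List.append_assoc] at h1
    have h2 : evalP y [i] = y i := by rw [evalP_cons, evalP_nil, mul_one]
    rw [h2] at h1
    show evalP y pre * (m i * y i * evalP (fun i => m i * y i) w) =
      evalP y pre * m i * (evalP y pre)⁻¹ * foxProd y m (pre ++ [i]) w * evalP y (pre ++ i :: w)
    have h3 : pre ++ i :: w = pre ++ ([i] ++ w) := rfl
    rw [h3, mul_assoc (evalP y pre * m i * (evalP y pre)⁻¹), ← h1]
    group

theorem evalP_perturb_nil {E : Type*} [Group E] (y m : ℕ → E) (w : List ℕ) :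
    evalP (fun i => m i * y i) w = foxProd y m [] w * evalP y w := by
  have h := evalP_perturb y m w []
  rwa [evalP_nil, one_mul, List.nil_append] at h

/-- the tail of a relator under perturbed letters -/
theorem tail_perturb {E : Type*} [Group E] (y m : ℕ → E) (lr : Rel) :
    tailE (fun i => m i * y i) lr =
      foxProd y m [] lr.1 * tailE y lr * (foxProd y m [] lr.2)⁻¹ := by
  unfold tailE
  rw [evalP_perturb_nil, evalP_perturb_nil]
  group

/-- four derivations, with equal starts and equal ends in pairs -/
theorem ident_sound {E : Type*} [Group E] (y : ℕ → E) (R : List Rel) (w1 w2 e1 e3 : List ℕ)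
    (D1 D2 D3 D4 : List (ℕ × ℕ)) (h1 : runD R w1 D1 = some e1) (h2 : runD R w2 D2 = some e1)
    (h3 : runD R w1 D3 = some e3) (h4 : runD R w2 D4 = some e3) :
    (conjProd y R w1 D3)⁻¹ * conjProd y R w1 D1 = (conjProd y R w2 D4)⁻¹ * conjProd y R w2 D2 := by
  have k1 := deriv_sound y R D1 w1 e1 h1
  have k2 := deriv_sound y R D2 w2 e1 h2
  have k3 := deriv_sound y R D3 w1 e3 h3
  have k4 := deriv_sound y R D4 w2 e3 h4
  have a1 : (conjProd y R w1 D3)⁻¹ * conjProd y R w1 D1 = evalP y e3 * (evalP y e1)⁻¹ := by
    have : conjProd y R w1 D1 * evalP y e1 = conjProd y R w1 D3 * evalP y e3 := by rw [← k1, ← k3]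
    calc (conjProd y R w1 D3)⁻¹ * conjProd y R w1 D1
        = (conjProd y R w1 D3)⁻¹ * (conjProd y R w1 D1 * evalP y e1) * (evalP y e1)⁻¹ := by group
      _ = evalP y e3 * (evalP y e1)⁻¹ := by rw [this]; group
  have a2 : (conjProd y R w2 D4)⁻¹ * conjProd y R w2 D2 = evalP y e3 * (evalP y e1)⁻¹ := by
    have : conjProd y R w2 D2 * evalP y e1 = conjProd y R w2 D4 * evalP y e3 := by rw [← k2, ← k4]
    calc (conjProd y R w2 D4)⁻¹ * conjProd y R w2 D2
        = (conjProd y R w2 D4)⁻¹ * (conjProd y R w2 D2 * evalP y e1) * (evalP y e1)⁻¹ := by group
      _ = evalP y e3 * (evalP y e1)⁻¹ := by rw [this]; group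
  rw [a1, a2]

/-- when all tails vanish a derivation does not change the value -/
theorem deriv_eq_of_tails {E : Type*} [Group E] (y : ℕ → E) (R : List Rel)
    (hR : ∀ r, evalP y (getR R r).1 = evalP y (getR R r).2) :
    ∀ (steps : List (ℕ × ℕ)) (w w' : List ℕ), runD R w steps = some w' → evalP y w = evalP y w' := by
  have hc : ∀ (steps : List (ℕ × ℕ)) (w : List ℕ), conjProd y R w steps = 1 := by
    intro steps
    induction steps with
    | nil => intro w; rfl
    | cons s ss ih =>
      intro w
      show (match applyStep R w s with
        | some w' => evalP y (w.take s.1) * tailE y (getR R s.2) * (evalP y (w.take s.1))⁻¹ *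
            conjProd y R w' ss
        | none => 1) = 1
      cases applyStep R w s with
      | none => rfl
      | some w1 =>
        show evalP y (w.take s.1) * tailE y (getR R s.2) * (evalP y (w.take s.1))⁻¹ *
            conjProd y R w1 ss = 1
        rw [ih w1]
        unfold tailE
        rw [hR s.2]
        group
  intro steps w w' h
  rw [deriv_sound y R steps w w' h, hc, one_mul]

end Cfsg.Agent.Lib.Helper10.M23H2
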