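import Mathlib
import Cfsg.Agent.Lib.Helper10.M23H2.Words
import Cfsg.Agent.Lib.Helper3.Golay.NPerm
import Cfsg.Agent.Lib.Helper3.Golay.Perm

set_option autoImplicit false

/-!
Linear forms over `ZMod 2` coded by bit masks, symbolic vectors (24 linear forms, one for each point)
and the symbolic versions of the products of conjugates of `Words.lean`.
-/

namespace Cfsg.Agent.Lib.Helper10.M23H2

open Cfsg Cfsg.Agent.Lib.Helper3.Golay
open Cfsg.Agent.Lib.Helper3.Fus (eqB)

/-- the value of the linear form with bit mask `f` in the variables `a 0, …, a (nv - 1)` -/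
def val (a : ℕ → ZMod 2) (nv : ℕ) (f : ℕ) : ZMod 2 :=
  ∑ i ∈ Finset.range nv, if f.testBit i then a i else 0

/-- xor of a list -/
def xorL (l : List ℕ) : ℕ := l.foldl (fun x y => x ^^^ y) 0

/-- the width of a block -/
def bw : ℕ := 512

/-- the `q`-th block of a packed symbolic vector: a linear form -/
def blk (sv q : ℕ) : ℕ := (sv >>> (bw * q)) % 2 ^ bw

/-- the packed symbolic vector with blocks `g 0, …, g 23` -/
def pack (g : ℕ → ℕ) : ℕ :=
  (List.range 24).foldl (fun acc q => acc ||| ((g q % 2 ^ bw) <<< (bw * q))) 0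

/-- reindexing of the blocks -/
def permB (f : ℕ → ℕ) (sv : ℕ) : ℕ := pack (fun q => blk sv (f q))

/-- the vector of values of a packed symbolic vector -/
def evalSV (a : ℕ → ZMod 2) (nv : ℕ) (sv : ℕ) : GolayPt → ZMod 2 :=
  fun p => val a nv (blk sv (idx p))

/-- the symbolic vector `∑ j, x (dim * r + j) • wordOf (B0 j)` of the `r`-th unknown vector -/
def tailB (B0 : List ℕ) (dim r : ℕ) : ℕ :=
  pack (fun q => xorL ((List.range dim).map
    (fun j => bif (B0.getD j 0).testBit q then 2 ^ (dim * r + j) else 0)))

/-- the index of the image of the point `q` under the inverse of the word `A`, the inverses of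
the letters being given by the table codes `tinv` -/
def traceI (tinv : List ℕ) (A : List ℕ) (q : ℕ) : ℕ :=
  A.foldl (fun q l => lookN (tinv.getD l idN) q) q

/-- the symbolic vector of `conjProd` -/
def formD (tinv B0 : List ℕ) (dim : ℕ) (R : List Rel) : List ℕ → List (ℕ × ℕ) → ℕ
  | _, [] => 0
  | w, s :: ss =>
    match applyStep R w s with
    | some w' =>
      permB (traceI tinv (w.take s.1)) (tailB B0 dim s.2) ^^^ formD tinv B0 dim R w' ss
    | none => 0

/-- an identity: four derivations `(w1, D1), (w2, D2), (w1, D3), (w2, D4)` -/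
abbrev Ident := (List ℕ × List ℕ) × (List (ℕ × ℕ) × List (ℕ × ℕ) × List (ℕ × ℕ) × List (ℕ × ℕ))

/-- the ends of the derivations of an identity match -/
def identOK (R : List Rel) (I : Ident) : Bool :=
  match runD R I.1.1 I.2.1, runD R I.1.2 I.2.2.1, runD R I.1.1 I.2.2.2.1, runD R I.1.2 I.2.2.2.2 with
  | some e1, some e2, some e3, some e4 => eqB e1 e2 && eqB e3 e4
  | _, _, _, _ => false

/-- the symbolic vector of an identity -/
def identForm (tinv B0 : List ℕ) (dim : ℕ) (R : List Rel) (I : Ident) : ℕ :=
  (formD tinv B0 dim R I.1.1 I.2.1 ^^^ formD tinv B0 dim R I.1.2 I.2.2.1) ^^^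
    (formD tinv B0 dim R I.1.1 I.2.2.2.1 ^^^ formD tinv B0 dim R I.1.2 I.2.2.2.2)

/-- the symbolic vector `∑ j, Sf i j • wordOf (B0 j)` of the `i`-th correction -/
def mB (B0 : List ℕ) (dim : ℕ) (Sf : List (List ℕ)) (i : ℕ) : ℕ :=
  pack (fun q => xorL ((List.range dim).map
    (fun j => bif (B0.getD j 0).testBit q then (Sf.getD i []).getD j 0 else 0)))

/-- the symbolic vector of `foxProd` -/
def foxForm (tinv B0 : List ℕ) (dim : ℕ) (Sf : List (List ℕ)) : List ℕ → List ℕ → ℕ
  | _, [] => 0
  | pre, i :: w =>
    permB (traceI tinv pre) (mB B0 dim Sf i) ^^^ foxForm tinv B0 dim Sf (pre ++ [i]) w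

/-- the symbolic vector of the corrected tail of the relator `r` -/
def conclForm (tinv B0 : List ℕ) (dim : ℕ) (Sf : List (List ℕ)) (R : List Rel) (r : ℕ) : ℕ :=
  tailB B0 dim r ^^^
    (foxForm tinv B0 dim Sf [] (getR R r).1 ^^^ foxForm tinv B0 dim Sf [] (getR R r).2)

/-- the list of the blocks of a list of packed symbolic vectors -/
def blocks (l : List ℕ) : List ℕ := l.flatMap (fun sv => (List.range 24).map (blk sv))

/-- the xor of the forms of `hb` selected by the list of gaps `gs`: skip `g` forms, take the next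
one, and so on -/
def comboGaps : List ℕ → List ℕ → ℕ
  | _, [] => 0
  | hb, g :: gs =>
    match hb.drop g with
    | f :: rest => f ^^^ comboGaps rest gs
    | [] => 0

/-- the certificate: every conclusion form is the stated combination of hypothesis forms -/
def certOK (hyps concls : List ℕ) (cert : List (List ℕ)) : Bool :=
  Nat.beq concls.length cert.length &&
    (concls.zip cert).all (fun p => Nat.beq (comboGaps hyps p.2) p.1)

end Cfsg.Agent.Lib.Helper10.M23H2
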